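import Groth.Agent.OmegaLib.SmoothCrit
import Groth.Agent.CMChart.OverField
import Groth.Agent.GrpAct.DimClosed
import Groth.Agent.GeomProp.SmoothPoint
import Mathlib

/-!
Irreducible schemes over perfect fields: regular iff the differentials are locally free of rank the dimension.
-/

set_option autoImplicit false
set_option linter.style.haveILetI false

universe u

open CategoryTheory AlgebraicGeometry

namespace Groth.Agent.RegOmega

theorem isFinLocFreeOfRank_iff_regular (k : Type u) [Field k] [PerfectField k] (n : ℕ) (X : Scheme.{u})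
    [X.Over (Spec (CommRingCat.of k))] [IrreducibleSpace ↥X]
    [LocallyOfFiniteType (X ↘ (Spec (CommRingCat.of k)))] (hn : topologicalKrullDim ↥X = (n : WithBot ℕ∞))
    (Ω : X.Modules) (d : OmegaSh.Der (X ↘ (Spec (CommRingCat.of k))) Ω) (hd : OmegaSh.IsUniversal d) :
    FlatMod.IsFinLocFreeOfRank n Ω ↔ ∀ x : ↥X, IsRegularLocalRing ↑(X.presheaf.stalk x) := by
  haveI : LocallyOfFinitePresentation (X ↘ Spec (CommRingCat.of k)) :=
    LocallyOfFinitePresentation.iff_locallyOfFiniteType.2 inferInstance
  have hfd : ∀ x : X, FlatMor.fibreDimAt (X ↘ Spec (CommRingCat.of k)) x = (n : WithBot ℕ∞) := fun x => by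
    rw [CMChart.fibreDimAt_eq_localDim, GrpAct.localDim_eq_of_irreducible (X ↘ Spec (CommRingCat.of k)), hn]
  constructor
  · intro h x
    obtain ⟨U, hxU, ⟨eU⟩⟩ := h x
    exact (GeomProp.smoothLocus_iff_regular k X x).1
      (OmegaLib.mem_smoothLocus_of_free hd hxU eU (fun _ => Flat.stalkMap _ x) (hfd x))
  · intro h x
    obtain ⟨-, U, m, hxU, hU, hm⟩ :=
      OmegaLib.exists_free_of_mem_smoothLocus hd ((GeomProp.smoothLocus_iff_regular k X x).2 (h x))
    rw [hfd x, Nat.cast_inj] at hm
    subst hm
    exact ⟨U, hxU, hU⟩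

end Groth.Agent.RegOmega
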